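import Cfsg.Agent.ODD.Defs
import Cfsg.Agent.Characters.GaloisIrr
import Cfsg.Agent.H970.K4.AltTools
import Cfsg.Agent.S1152
import Cfsg.Agent.S1157

/-!
# ODD: groups all of whose characters are `2`-rational (helper30)

* `AllR G` : all irreducible characters are `Rat2` (the same term as `TAB.Use.AllRat G`);
* `AllR.cover` : this passes to central extensions with a kernel of odd order; `rowO_of_allR`;
* `allR_alt`, `allR_of_sq` (no elements of order four);
* `rowAlt`, `rowRee` : the rows `BoxO.alt`, `BoxO.ree`.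
-/

set_option autoImplicit false
set_option maxHeartbeats 200000

namespace Cfsg.Agent.ODD.Alt

open Cfsg Cfsg.Agent.ODD.Red Cfsg.Agent.Characters

universe u v

/-- all irreducible characters are `2`-rational -/
def AllR (G : Type u) [Group G] : Prop := ∀ χ : G → ℂ, IsIrrCharacter G χ → Rat2 χ

theorem modEq_of_roots {n k l : ℕ} (hn : n ≠ 0) (h : ∀ z : ℂ, z ^ n = 1 → z ^ k = z ^ l) : k ≡ l [MOD n] := by
  have hζ := Complex.isPrimitiveRoot_exp n hn
  have h1 := h _ hζ.pow_eq_one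
  rwa [(hζ.isOfFinOrder hn).pow_eq_pow_iff_modEq, ← hζ.eq_orderOf] at h1

section

variable {G : Type u} [Group G] [Finite G]

theorem pow_eq_of_two {τ : ℂ ≃+* ℂ} (hτ : Two τ) {n k : ℕ} (h : ∀ z : ℂ, z ^ n = 1 → τ z = z ^ k) {g : G}
    (hg : g ^ n = 1) (ho : Odd (orderOf g)) : g ^ k = g := by
  have h1 := modEq_of_roots (n := orderOf g) (k := k) (l := 1) (orderOf_pos g).ne' fun z hz => by
    obtain ⟨c, hc⟩ := orderOf_dvd_of_pow_eq_one hg
    rw [← h z (by rw [hc, pow_mul, hz, one_pow]), hτ _ z ho hz, pow_one]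
  rw [← pow_eq_pow_iff_modEq, pow_one] at h1
  exact h1

theorem allR_of_conj (h : ∀ τ : ℂ ≃+* ℂ, Two τ → ∀ k : ℕ, k.Coprime (Nat.card G) →
    (∀ z : ℂ, z ^ Nat.card G = 1 → τ z = z ^ k) → ∀ g : G, IsConj g (g ^ k)) : AllR G := by
  intro χ hχ τ hτ g
  obtain ⟨k, hk, h1⟩ := GaloisBasic.exists_coprime_pow (τ : ℂ →+* ℂ) (Nat.card_pos (α := G)).ne'
  exact (GaloisBasic.map_apply_card τ h1 (Core.isIrr_isCharacter hχ) g).trans
    (GaloisIrr.isConj_iff_forall_irr.1 (h τ hτ k hk h1 g) χ hχ).symm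

theorem AllR.isConj (h : AllR G) {τ : ℂ ≃+* ℂ} (hτ : Two τ) {n k : ℕ} (hn : n ≠ 0)
    (h1 : ∀ z : ℂ, z ^ n = 1 → τ z = z ^ k) {g : G} (hg : g ^ n = 1) : IsConj g (g ^ k) :=
  GaloisIrr.isConj_iff_forall_irr.2 fun χ hχ =>
    (h χ hχ τ hτ g).symm.trans (GaloisBasic.map_apply (τ : ℂ →+* ℂ) h1 (Core.isIrr_isCharacter hχ) hn hg)

/-- `AllR` passes to central extensions with a kernel of odd order -/
theorem AllR.cover {X : Type v} [Group X] [Finite X] (φ : X →* G) (hφ : Function.Surjective φ)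
    (hZ : φ.ker ≤ Subgroup.center X) (ho : Odd (Nat.card φ.ker)) (h : AllR G) : AllR X := by
  refine allR_of_conj fun τ hτ k _ h1 g => ?_
  have hn := (Nat.card_pos (α := X)).ne'
  obtain ⟨y, hy⟩ := isConj_iff.1 (h.isConj hτ hn h1 (g := φ g) (by rw [← map_pow, pow_card_eq_one', map_one]))
  obtain ⟨y, rfl⟩ := hφ y
  obtain ⟨z, hz, hyz⟩ : ∃ z ∈ φ.ker, y * g * y⁻¹ = g ^ k * z :=
    ⟨(g ^ k)⁻¹ * (y * g * y⁻¹), by rw [MonoidHom.mem_ker, map_mul, map_mul, map_mul, map_inv φ y, hy]; simp, by group⟩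
  have hc : ∀ x, Commute x z := fun x => Subgroup.mem_center_iff.1 (hZ hz) x
  have hzo : Odd (orderOf z) := ho.of_dvd_nat (φ.ker.orderOf_dvd_natCard hz)
  have hzk : z ^ k = z := pow_eq_of_two hτ h1 pow_card_eq_one' hzo
  have hzk' : ∀ j, z ^ k ^ j = z := fun j => by
    induction j with
    | zero => simp
    | succ j ih => rw [pow_succ, pow_mul, ih, hzk]
  have hyz' : ∀ i, y * z ^ i * y⁻¹ = z ^ i := fun i => by rw [((hc y).pow_right i).eq]; group
  have h2 : ∀ j, y ^ j * g * (y ^ j)⁻¹ = g ^ k ^ j * z ^ j := fun j => by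
    induction j with
    | zero => simp
    | succ j ih =>
      calc y ^ (j + 1) * g * (y ^ (j + 1))⁻¹ = y * (y ^ j * g * (y ^ j)⁻¹) * y⁻¹ := by rw [pow_succ']; group
        _ = (y * g * y⁻¹) ^ k ^ j * (y * z ^ j * y⁻¹) := by rw [ih, conj_pow]; group
        _ = _ := by rw [hyz, hyz', ((hc g).pow_left k).mul_pow, hzk', ← pow_mul, ← pow_succ', mul_assoc, ← pow_succ']
  obtain ⟨b, hb⟩ := hτ.exists_pow hn
  have h3 : g ^ k ^ 2 ^ b = g := by
    have h4 := modEq_of_roots (k := k ^ 2 ^ b) (l := 1) hn fun w hw => by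
      rw [← pow_apply_root h1 _ hw, hb w hw, pow_one]
    rw [pow_eq_pow_iff_modEq.2 (h4.of_dvd (orderOf_dvd_natCard g)), pow_one]
  have h4 : ∀ i, IsConj g (g * (z ^ 2 ^ b) ^ i) := fun i => by
    induction i with
    | zero => rw [pow_zero, mul_one]
    | succ i ih =>
      refine ih.trans (isConj_iff.2 ⟨y ^ 2 ^ b, ?_⟩)
      rw [← mul_assoc, mul_assoc _ (_ ^ i), ← (((hc (y ^ 2 ^ b)⁻¹).pow_right _).pow_right i).eq, ← mul_assoc, h2, h3,
        mul_assoc, ← pow_succ']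
  obtain ⟨i, hi⟩ : ∃ i, (z ^ 2 ^ b) ^ i = z⁻¹ := by
    have h5 : (2 ^ b).Coprime (orderOf z⁻¹) := by
      rw [orderOf_inv]; exact (Nat.coprime_two_left.2 hzo).pow_left b
    obtain ⟨i, hi⟩ := exists_pow_eq_self_of_coprime h5
    refine ⟨i * (orderOf z - 1), ?_⟩
    rw [inv_pow, inv_pow, inv_inj] at hi
    rw [pow_mul, hi, eq_inv_iff_mul_eq_one, ← pow_succ, Nat.sub_add_cancel (orderOf_pos z), pow_orderOf_eq_one]
  refine (hi ▸ h4 i).trans (isConj_iff.2 ⟨y, ?_⟩)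
  rw [← mul_assoc, mul_assoc _ z⁻¹, ← (hc y⁻¹).inv_right.eq, ← mul_assoc, hyz, mul_inv_cancel_right]

theorem AllR.congr {X : Type v} [Group X] [Finite X] (e : X ≃* G) (h : AllR G) : AllR X :=
  h.cover e.toMonoidHom e.surjective (by rw [(MonoidHom.ker_eq_bot_iff _).2 e.injective]; exact bot_le)
    (by rw [(MonoidHom.ker_eq_bot_iff _).2 e.injective]; simp)

/-- no elements of order four -/
theorem allR_of_sq (h : ∀ x : G, x ^ 4 = 1 → x * x = 1) : AllR G := by
  refine allR_of_conj fun τ hτ k hk h1 g => ?_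
  obtain ⟨a, m, hm, ho⟩ := Nat.exists_eq_two_pow_mul_odd (orderOf_pos g).ne'
  have h2 : ∀ (a : ℕ) (x : G), x ^ 2 ^ a = 1 → x * x = 1 := by
    intro a
    induction a with
    | zero => intro x hx; rw [pow_zero, pow_one] at hx; rw [hx, one_mul]
    | succ a ih =>
      intro x hx
      refine h x ?_
      rw [show 4 = 2 + 2 from rfl, pow_add]
      exact ih (x ^ 2) (by rwa [← pow_mul, ← pow_succ'])
  have h3 := h2 a (g ^ m) (by rw [← pow_mul, mul_comm, ← ho, pow_orderOf_eq_one])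
  have h4 : Odd (orderOf (g ^ 2)) :=
    hm.of_dvd_nat (orderOf_dvd_of_pow_eq_one (by rw [← pow_mul, mul_comm, pow_mul, pow_two, h3]))
  by_cases h5 : Odd (orderOf g)
  · rw [pow_eq_of_two hτ h1 pow_card_eq_one' h5]
  have h6 : Odd k := Nat.coprime_two_right.1
    (hk.coprime_dvd_right ((even_iff_two_dvd.1 (Nat.not_odd_iff_even.1 h5)).trans (orderOf_dvd_natCard g)))
  have h7 := pow_eq_of_two hτ h1 pow_card_eq_one' h4
  obtain ⟨m, rfl⟩ := hm
  obtain ⟨k, rfl⟩ := h6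
  have h8 : (g ^ (2 * m + 1)) ^ (2 * k + 1) = g ^ (2 * m + 1) := by rw [pow_succ, pow_mul, pow_two, h3, one_pow, one_mul]
  have h9 : (g ^ 2) ^ m * g ^ (2 * k + 1) = (g ^ 2) ^ m * g := by
    conv_lhs => rw [← h7]
    rw [← pow_mul g 2 m, ← pow_succ, ← h8]
    simp only [← pow_mul, ← pow_add]
    congr 1
    ring
  rw [mul_left_cancel h9]

end

theorem allR_alt {α : Type u} [Fintype α] [DecidableEq α] : AllR (alternatingGroup α) := by
  refine allR_of_conj fun τ hτ k hk h1 g => ?_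
  by_cases ho : Odd (orderOf g)
  · rw [pow_eq_of_two hτ h1 pow_card_eq_one' ho]
  have ho' : orderOf (g : Equiv.Perm α) = orderOf g := Subgroup.orderOf_coe g
  obtain ⟨t, ht, htg⟩ := H970.K4.exists_odd_comm (g := (g : Equiv.Perm α)) (by rw [ho']; exact ho)
  obtain ⟨s, hs⟩ := isConj_iff.1 (H970.K4.isConj_pow_coprime (g : Equiv.Perm α) (k := k)
    (by rw [ho']; exact hk.coprime_dvd_right (orderOf_dvd_natCard g)))
  by_cases h : s ∈ alternatingGroup α
  · exact isConj_iff.2 ⟨⟨s, h⟩, Subtype.ext hs⟩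
  refine isConj_iff.2 ⟨⟨s * t, (Subgroup.mul_mem_iff_of_index_two ?_).2 (iff_of_false h ht)⟩, Subtype.ext ?_⟩
  · have : Nontrivial α := by
      by_contra h2
      rw [not_nontrivial_iff_subsingleton] at h2
      exact h (Subsingleton.elim s 1 ▸ one_mem _)
    exact alternatingGroup.index_eq_two
  · show s * t * g * (s * t)⁻¹ = (g : Equiv.Perm α) ^ k
    rw [mul_inv_rev, mul_assoc s t, htg, ← hs]
    group

theorem rowO_of_allR {K : Fam} (h : ∀ (S : Type) [Group S] [Finite S], K S → AllR S) : RowO K := by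
  intro X _ _ c θ hθ _
  refine (h _ c.fam).cover (QuotientGroup.mk' (Subgroup.center X)) (QuotientGroup.mk'_surjective _) ?_ ?_ θ hθ
  · rw [QuotientGroup.ker_mk']
  · rw [QuotientGroup.ker_mk']
    exact c.odd

/-- `BoxO.alt` -/
theorem rowAlt : RowO fun S _ => IsAlternating S :=
  rowO_of_allR fun _ _ _ ⟨_, _, ⟨e⟩⟩ => allR_alt.congr e

theorem sq_of_ree {K : Type u} [Group K] [Finite K] (h : Lie.IsoRee K) (x : K) (hx : x ^ 4 = 1) : x * x = 1 := by
  obtain ⟨F, _, _, m, hm, hF, ⟨e⟩⟩ := h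
  classical
  have hchar := LieRecognition.ReeAbs.charP_three hF
  have : Finite ↥(Cfsg.Lie.twistedG2 F (3 ^ m)) := Finite.of_equiv K e.toEquiv
  obtain ⟨a, haH, ha1, ha2⟩ := S1157.exists_involution hF
  obtain ⟨-, hS⟩ := S1152.result hF a haH ha1 ha2
  have h1 : IsPGroup 2 (Subgroup.zpowers (e x)) := by
    have h3 : orderOf (e x) ∣ 2 ^ 2 := orderOf_dvd_of_pow_eq_one (by rw [← map_pow]; norm_num [hx])
    obtain ⟨k, -, hk⟩ := (Nat.dvd_prime_pow Nat.prime_two).1 h3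
    exact IsPGroup.of_card (n := k) (by rw [Nat.card_zpowers, hk])
  obtain ⟨S, hS1⟩ := h1.exists_le_sylow
  have h4 := (hS S).2 (e x) (hS1 (Subgroup.mem_zpowers _))
  apply e.injective
  rw [map_mul, h4, map_one]

/-- `BoxO.ree` -/
theorem rowRee : RowO fun S _ => Lie.IsoRee S :=
  rowO_of_allR fun _ _ _ h => allR_of_sq (sq_of_ree h)

end Cfsg.Agent.ODD.Alt
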