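import Cfsg.Agent.ODD.Alt.Diag
import Cfsg.Agent.GAL.Tools
import Cfsg.Agent.TAB.Use.Main
import Cfsg.Agent.H799.SymSyl
import Cfsg.Agent.H614.IndexTwo
import Cfsg.Agent.H615.AltClif
import Cfsg.Agent.Blocks.Over
import Cfsg.Agent.H970.K4.AltTools
import Cfsg.Agent.H348.PPD.AltFive
import Cfsg.Agent.S2119

/-!
# GAL: the box of the alternating groups (helper30)

* `oddSig_alt` : for `n ≥ 6` the irreducible characters of odd degree of `A_n` are fixed by `σ`;
* `box_five`, `boxAlt : IsAlternating S → GAL.Box S`.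
-/

set_option autoImplicit false
set_option maxHeartbeats 200000

namespace Cfsg.Agent.ODD.Alt

open Cfsg Cfsg.Agent.ODD.Red Cfsg.Agent.Characters Cfsg.Agent.TAB.Use Cfsg.Agent.GAL Cfsg.Agent.H614 Equiv

universe u

theorem oddSig_alt {n : ℕ} (hn : 6 ≤ n) : OddSig (alternatingGroup (Fin n)) := by
  classical
  intro θ hθ ho σ hσ
  have : Nontrivial (Fin n) := Fin.nontrivial_iff_two_le.2 (by omega)
  have hc := Core.isIrr_isCharacter hθ
  obtain ⟨⟨χ, hχ⟩, h1⟩ := Blocks.Over.exists_over (alternatingGroup (Fin n)) ⟨θ, hθ⟩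
  obtain ⟨β, hβ, hs, rfl⟩ := irr_eq (m := n) (α := Fin n) (by rw [Fintype.card_fin]) hχ
  rw [Fintype.card_fin] at hs
  have hr : ∀ g, σ (ch (Fin n) β g) = ch (Fin n) β g := fun g => by rw [ch_apply, map_intCast]
  rcases restrict_two _ alternatingGroup.index_eq_two hχ hθ h1 with h | ⟨-, h⟩
  · exact fun g => by rw [← h, hr]
  by_contra hne
  have h2 := GaloisIrr.classInner_map σ (χ := fun g : alternatingGroup (Fin n) => ch (Fin n) β g) hc
  simp only [hr] at h2
  have h3 := H615.AltClif.restrict_eq_add alternatingGroup.index_eq_two hχ h hθ (GaloisIrr.isIrr_map σ hθ)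
    (fun e => hne fun g => (congrFun e g).symm) h1 (by rw [h2]; exact (map_ne_zero σ).2 h1)
  have h4 : ∀ g : alternatingGroup (Fin n), (FM (ty (g : Perm (Fin n))) β : ℂ) = θ g + σ (θ g) := congrFun h3
  obtain ⟨k, hk₁, hk₂⟩ := exists_k (alternatingGroup (Fin n))
  obtain ⟨g, hg, h5, ⟨s, hs', h6⟩, h7⟩ := core hn (H29.AltSelf.isRefl_of_vanish hβ hs le_rfl h) hs fun x hx h5 h6 => by
    have h7 : ∃ j, orderOf (⟨x, hx⟩ : alternatingGroup (Fin n)) = 2 ^ j := by simpa using h5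
    have h8 := h4 ⟨x, hx⟩
    rw [map_eq_pow hσ hk₁ hk₂ hc, hk₁ _ h7, h6, Int.cast_zero, eq_comm, add_self_eq_zero] at h8
    exact odd_iff'.1 ho (S4558.result 2 θ hc _ h7 h8)
  have h8 := h4 ⟨g, hg⟩
  have h9 : (⟨g, hg⟩ : alternatingGroup (Fin n)) ^ 2 = ⟨s, hs'⟩ * ⟨g, hg⟩ * ⟨s, hs'⟩⁻¹ := Subtype.ext h6.symm
  rw [map_odd hσ hc (by simpa using h5), h9, Core.isIrr_isClassFunction hθ] at h8
  have h10 := even_of_integral (GaloisBasic.isIntegral_apply hc _) h8.symm
  rcases h7 with h7 | h7 <;> simp [h7] at h10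

theorem box_six {n : ℕ} (hn : 6 ≤ n) : Box (alternatingGroup (Fin n)) :=
  have := fact2
  box_of_self default (H799.SymSyl.normalizer_alt (by rwa [Fintype.card_fin]) _).le (oddSig_alt hn)

/-- the characters which are invariant under all automorphisms are rational -/
theorem fix_of_inv {α : Type u} [Fintype α] [DecidableEq α] {θ : alternatingGroup α → ℂ}
    (hθ : IsCharacter (alternatingGroup α) θ) (h : ∀ (a : MulAut (alternatingGroup α)) g, θ (a g) = θ g) (σ : ℂ ≃+* ℂ) :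
    Fix σ θ := by
  intro g
  obtain ⟨k, hk, h1⟩ := GaloisBasic.exists_coprime_pow (σ : ℂ →+* ℂ) (Nat.card_pos (α := alternatingGroup α)).ne'
  obtain ⟨s, hs⟩ := isConj_iff.1 (H970.K4.isConj_pow_coprime (g : Perm α) (k := k)
    (by rw [Subgroup.orderOf_coe]; exact hk.coprime_dvd_right (orderOf_dvd_natCard g)))
  rw [GaloisBasic.map_apply_card σ h1 hθ, ← h (MulAut.conjNormal s) g]
  congr 1
  exact Subtype.ext hs.symm

/-! ### `A₅` -/

/-- the group -/
abbrev A5 : Type := alternatingGroup (Fin 5)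

/-- an involution -/
def t5 : A5 := ⟨swap 0 1 * swap 2 3, Perm.mem_alternatingGroup.2 (by decide +kernel)⟩
/-- an element of order three -/
def c5 : A5 := ⟨swap 0 1 * swap 1 2, Perm.mem_alternatingGroup.2 (by decide +kernel)⟩
/-- an element of order five -/
def f5 : A5 := ⟨swap 0 1 * swap 1 2 * (swap 2 3 * swap 3 4), Perm.mem_alternatingGroup.2 (by decide +kernel)⟩

theorem card_A5 : Nat.card A5 = 60 := by
  rw [Nat.card_eq_fintype_card]
  decide +kernel

/-- a Sylow `2`-subgroup -/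
noncomputable def Q5 : Sylow 2 A5 :=
  have := fact2
  Sylow.ofCard (Subgroup.centralizer {t5}) (by
    have h1 : Nat.card (Subgroup.centralizer ({t5} : Set A5)) = Fintype.card {g : A5 // g * t5 = t5 * g} := by
      rw [← Nat.card_eq_fintype_card]
      exact Nat.card_congr (Equiv.subtypeEquivRight fun g => Subgroup.mem_centralizer_singleton_iff)
    rw [h1, card_A5, show (60 : ℕ) = 2 ^ 2 * 15 from rfl, Nat.factorization_mul (by norm_num) (by norm_num),
      Nat.Prime.factorization_pow Nat.prime_two, Finsupp.add_apply, Finsupp.single_eq_same,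
      Nat.factorization_eq_zero_of_not_dvd (show ¬ 2 ∣ 15 by norm_num)]
    decide +kernel)

theorem mem_Q5 {g : A5} : g ∈ (Q5 : Subgroup A5) ↔ g * t5 = t5 * g := Subgroup.mem_centralizer_singleton_iff

theorem not_dg5 : ¬ DG Q5 := fun h => by
  have h1 : ∀ g : A5, g * t5 = t5 * g → c5 * g * c5⁻¹ * t5 = t5 * (c5 * g * c5⁻¹) := by decide +kernel
  have h2 : orderOf c5 = 3 := orderOf_eq_prime (by decide +kernel) (by decide +kernel)
  have h3 := h c5 (Subgroup.mem_normalizer_fintype fun g hg => mem_Q5.2 (h1 g (mem_Q5.1 hg))) (by rw [h2]; decide)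
  exact absurd (Subgroup.mem_centralizer_iff.1 h3 t5 (mem_Q5.2 rfl)) (by decide +kernel)

theorem moved5 : OddMoved A5 := by
  have : Fact (Nat.Prime 5) := ⟨by norm_num⟩
  have h1 : ∀ g : A5, g * f5 * g⁻¹ ≠ f5 ^ 2 := by decide +kernel
  have h2 : orderOf f5 = 5 := orderOf_eq_prime (by decide +kernel) (by decide +kernel)
  obtain ⟨χ, hχ, h3⟩ : ∃ χ : A5 → ℂ, IsIrrCharacter A5 χ ∧ χ f5 ≠ χ (f5 ^ 2) := by
    by_contra hc
    push Not at hc
    obtain ⟨g, hg⟩ := isConj_iff.1 (GaloisIrr.isConj_iff_forall_irr.2 hc)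
    exact h1 g hg
  have h4 : ∀ σ, Sig σ → ¬ Fix σ χ := fun σ hσ h =>
    h3 ((h f5).symm.trans (map_odd hσ (Core.isIrr_isCharacter hχ) (by rw [h2]; decide)))
  obtain ⟨σ, hσ⟩ := exists_sig
  obtain ⟨d, -, hd⟩ := Core.isIrr_apply_one hχ
  have h5 : χ 1 = 3 := H348.PPD.AltFive.degree_three (MulEquiv.refl _) (η := ⟨χ, hχ⟩)
    (η' := ⟨_, GaloisIrr.isIrr_map σ hχ⟩) (fun e => h4 σ hσ fun g => (congrFun (congrArg Subtype.val e) g).symm)
    (show χ 1 = σ (χ 1) by rw [hd, map_natCast])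
  refine ⟨χ, hχ, ?_, h4⟩
  rw [H970.K4.charDegree_eq_of (n := 3) (by rw [h5]; rfl)]
  decide

theorem inner_iff {s : Perm (Fin 5)} : Inner (MulAut.conjNormal s : MulAut A5) ↔ s ∈ alternatingGroup (Fin 5) := by
  constructor
  · rintro ⟨t, ht⟩
    rw [← MulAut.conjNormal_val] at ht
    rw [(S2119.result 5 (by norm_num) (by norm_num)).1 ht]
    exact t.2
  · exact fun h => ⟨⟨s, h⟩, MulAut.conjNormal_val (h := ⟨s, h⟩)⟩

theorem dd5 {Q : Sylow 2 A5} {R : Subgroup (MulAut A5)} (hR : Frame Q R) (h : ∃ r ∈ R, ¬ Inner r) : DD Q R := by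
  have := fact2
  have hb := S2119.result 5 (by norm_num) (by norm_num)
  obtain ⟨r, hr, hr'⟩ := h
  obtain ⟨s, rfl⟩ := hb.2 r
  rw [inner_iff] at hr'
  let P : Subgroup (Perm (Fin 5)) := R.comap MulAut.conjNormal
  have hQP : ∀ q ∈ (Q : Subgroup A5), (q : Perm (Fin 5)) ∈ P := fun q hq => by
    show MulAut.conjNormal (q : Perm (Fin 5)) ∈ R
    rw [MulAut.conjNormal_val]
    exact hR.inn q hq
  obtain ⟨T, hT⟩ := (hR.two.comap_of_injective MulAut.conjNormal hb.1).exists_le_sylow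
  have h1 : (T : Subgroup (Perm (Fin 5))).subgroupOf (alternatingGroup (Fin 5)) = Q :=
    Q.is_maximal' T.isPGroup'.comap_subtype fun q hq => hT (hQP q hq)
  have h2 : ∀ x ∈ (T : Subgroup (Perm (Fin 5))), x ∈ alternatingGroup (Fin 5) → x ∈ P := fun x hx hx' =>
    hQP ⟨x, hx'⟩ (h1 ▸ hx)
  have h3 : ∀ x ∈ (T : Subgroup (Perm (Fin 5))), x ∈ P := fun x hx => by
    by_cases hx' : x ∈ alternatingGroup (Fin 5)
    · exact h2 x hx hx'
    · exact (P.mul_mem_cancel_right hr).1 (h2 _ (mul_mem hx (hT hr))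
        ((Subgroup.mul_mem_iff_of_index_two alternatingGroup.index_eq_two).2 (iff_of_false hx' hr')))
  intro y ho hy
  have h4 : (y : Perm (Fin 5))⁻¹ = 1 := by
    refine H799.SymSyl.perm_eq_one T (Subgroup.mem_normalizer_fintype fun x hx => ?_)
      (by rwa [orderOf_inv, Subgroup.orderOf_coe])
    have h5 := mul_mem (hT (hQP _ (hy _ (h3 x hx)))) hx
    rw [Subgroup.coe_mul, MulAut.conjNormal_apply] at h5
    rw [inv_inv]
    rwa [mul_assoc, inv_mul_cancel_right, ← mul_assoc] at h5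
  have h5 : y = 1 := Subtype.ext (inv_eq_one.1 h4)
  exact fun r _ => by rw [h5, map_one]

theorem box_five : Box A5 := by
  have hb := S2119.result 5 (by norm_num) (by norm_num)
  have h1 : ∀ y : A5, y * t5 = t5 * y → y ^ 2 = 1 := by decide +kernel
  have h2 : ∀ y : A5, y * t5 = t5 * y → y * c5 = c5 * y → y = 1 := by decide +kernel
  refine box_of_cases (eq_bot_iff.2 fun y hy => h2 y (Subgroup.mem_center_iff.1 hy _).symm
    (Subgroup.mem_center_iff.1 hy _).symm) Q5 (iff_of_false not_dg5 (not_fg_of_moved Q5 (fun y hy ho => ?_) moved5))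
    fun Q R hR h => iff_of_true (dd5 hR h) (ff_of_aut (fun r r' hr hr' => ?_)
      (fun θ hθ _ hi σ _ => fix_of_inv (Core.isIrr_isCharacter hθ) hi σ) h)
  · have h3 := orderOf_dvd_of_pow_eq_one (h1 y (Subgroup.mem_centralizer_iff.1 hy t5 (mem_Q5.2 rfl)).symm)
    exact orderOf_eq_one_iff.1 (Nat.Coprime.eq_one_of_dvd (Nat.coprime_two_right.2 ho) h3)
  · obtain ⟨s, rfl⟩ := hb.2 r
    obtain ⟨s', rfl⟩ := hb.2 r'
    rw [inner_iff] at hr hr'
    rw [← map_inv, ← map_mul, inner_iff]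
    exact (Subgroup.mul_mem_iff_of_index_two alternatingGroup.index_eq_two).2
      (iff_of_false hr' fun e => hr (inv_mem_iff.1 e))

/-- **the box of the alternating groups** -/
theorem boxAlt {S : Type u} [Group S] [Finite S] (h : IsAlternating S) : Box S := by
  obtain ⟨n, hn, ⟨e⟩⟩ := h
  rcases hn.eq_or_lt with rfl | h6
  · exact Box.congr e box_five
  · exact Box.congr e (box_six h6)

end Cfsg.Agent.ODD.Alt
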