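import Mathlib

/-!
# The sign of a permutation conjugating `g` to `g ^ 2` (helper30)
-/

set_option autoImplicit false
set_option maxHeartbeats 200000

namespace Cfsg.Agent.ODD.Alt

open Equiv Finset

/-- doubling -/
noncomputable def dbl (h : ℕ) : Perm (Fin (2 * h + 1)) :=
  Equiv.ofBijective (fun x => x + x) (Finite.injective_iff_bijective.1 fun x y hxy => by
    have h1 := congrArg Fin.val hxy
    have := x.2
    have := y.2
    simp only [Fin.val_add_eq_ite] at h1
    apply Fin.ext
    split_ifs at h1 <;> omega)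

theorem dbl_apply (h : ℕ) (x : Fin (2 * h + 1)) : dbl h x = x + x := rfl

theorem dbl_val (h : ℕ) (x : Fin (2 * h + 1)) :
    (dbl h x : ℕ) = if (x : ℕ) ≤ h then 2 * (x : ℕ) else 2 * x - (2 * h + 1) := by
  rw [dbl_apply, Fin.val_add_eq_ite]
  split_ifs <;> omega

/-- the Jacobi symbol `(2 / d)` -/
def eps (d : ℕ) : ℤˣ := if d % 8 = 1 ∨ d % 8 = 7 then 1 else -1

theorem neg_one_pow_tri (h : ℕ) : (-1 : ℤˣ) ^ (∑ t ∈ range (h + 1), t) = eps (2 * h + 1) := by
  induction h with
  | zero => simp [eps]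
  | succ h ih =>
    rw [sum_range_succ, pow_add, ih, eps, eps]
    rcases Nat.even_or_odd (h + 1) with h1 | h1
    · rw [h1.neg_one_pow, mul_one]
      obtain ⟨k, hk⟩ := h1
      exact if_congr (by omega) rfl rfl
    · rw [h1.neg_one_pow]
      obtain ⟨k, hk⟩ := h1
      split_ifs with h2 h3 h3
      · omega
      · simp
      · simp
      · omega

theorem sign_dbl (h : ℕ) : Perm.sign (dbl h) = eps (2 * h + 1) := by
  rw [Perm.sign_eq_prod_prod_Iio, ← neg_one_pow_tri]
  have h1 : ∀ j : Fin (2 * h + 1), ∏ i ∈ Iio j, (if dbl h i < dbl h j then (1 : ℤˣ) else -1) =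
      (-1) ^ (if (j : ℕ) ≤ h then 0 else 2 * h + 1 - j) := by
    intro j
    rw [prod_ite, prod_const_one, one_mul, prod_const]
    congr 1
    have hj := j.2
    have h2 : (filter (fun i => ¬ dbl h i < dbl h j) (Iio j)).map Fin.valEmbedding =
        if (j : ℕ) ≤ h then ∅ else Icc (j - h) h := by
      ext a
      simp only [mem_map, mem_filter, mem_Iio, Fin.lt_def, dbl_val, Fin.valEmbedding_apply]
      constructor
      · rintro ⟨i, ⟨h3, h4⟩, rfl⟩
        split_ifs at h4 ⊢ <;> simp only [mem_Icc, notMem_empty] <;> omega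
      · intro h3
        split_ifs at h3 with h4
        · exact absurd h3 (notMem_empty a)
        · rw [mem_Icc] at h3
          refine ⟨⟨a, by omega⟩, ⟨by simp only; omega, ?_⟩, rfl⟩
          simp only
          split_ifs <;> omega
    rw [← card_map Fin.valEmbedding, h2]
    split_ifs
    · rfl
    · rw [Nat.card_Icc]
      omega
  rw [prod_congr rfl fun j _ => h1 j, prod_pow_eq_pow_sum,
    Fin.sum_univ_eq_sum_range (fun j => if j ≤ h then 0 else 2 * h + 1 - j)]
  congr 1
  rw [show 2 * h + 1 = h + 1 + h by ring, sum_range_add, sum_eq_zero fun x hx => if_pos (by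
    rw [mem_range] at hx; omega), zero_add, sum_range_succ', add_zero, ← sum_range_reflect]
  refine sum_congr rfl fun x hx => ?_
  rw [mem_range] at hx
  rw [if_neg (by omega)]
  omega

theorem dbl_rot (h : ℕ) : dbl h * finRotate (2 * h + 1) * (dbl h)⁻¹ = finRotate (2 * h + 1) ^ 2 := by
  rw [mul_inv_eq_iff_eq_mul]
  ext x
  rw [pow_two, Perm.mul_apply, Perm.mul_apply, Perm.mul_apply, finRotate_apply, finRotate_apply,
    finRotate_apply, dbl_apply, dbl_apply]
  congr 1
  abel

variable {α : Type*} [Fintype α] [DecidableEq α]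

theorem exists_sq_cycle {c : Perm α} (hc : c.IsCycle) (ho : Odd #c.support) :
    ∃ s : Perm α, s * c * s⁻¹ = c ^ 2 ∧ (∀ x, c x = x → s x = x) ∧ Perm.sign s = eps #c.support := by
  obtain ⟨h, hh⟩ := ho
  have h2 := hc.two_le_card_support
  obtain ⟨h, rfl⟩ : ∃ k, h = k + 1 := ⟨h - 1, by omega⟩
  obtain ⟨S, hS'⟩ : ∃ S, S = c.support := ⟨_, rfl⟩
  let f : Fin (2 * (h + 1) + 1) ≃ {x // x ∈ S} := (Fintype.equivFinOfCardEq (by rw [Fintype.card_coe, hS', hh])).symm
  have hR : (finRotate (2 * (h + 1) + 1)).IsCycle := isCycle_finRotate (n := 2 * h + 1)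
  have hS : (finRotate (2 * (h + 1) + 1)).support = univ := support_finRotate (n := 2 * h + 1)
  obtain ⟨t, ht⟩ := isConj_iff.1 ((hR.extendDomain f).isConj hc (by
    rw [Perm.card_support_extend_domain, hS, hh]; simp))
  refine ⟨t * (dbl (h + 1)).extendDomain f * t⁻¹, ?_, fun x hx => ?_, ?_⟩
  · have h3 := congrArg (Perm.extendDomainHom f) (dbl_rot (h + 1))
    rw [map_mul, map_mul, map_inv, map_pow] at h3
    simp only [Perm.extendDomainHom_apply] at h3
    rw [← ht, conj_pow, ← h3]
    group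
  · rw [← ht, Perm.mul_apply, Perm.mul_apply, ← Perm.eq_inv_iff_eq] at hx
    rw [Perm.mul_apply, Perm.mul_apply, ← Perm.eq_inv_iff_eq]
    refine Perm.extendDomain_apply_not_subtype _ f fun hp => ?_
    have h3 : t⁻¹ x ∈ ((finRotate (2 * (h + 1) + 1)).extendDomain f).support := by
      rw [Perm.support_extend_domain, hS]
      exact mem_map.2 ⟨f.symm ⟨_, hp⟩, mem_univ _, by simp⟩
    exact Perm.mem_support.1 h3 hx
  · rw [Perm.sign_mul, Perm.sign_mul, Perm.sign_inv, Perm.sign_extendDomain, sign_dbl, hh, mul_right_comm,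
      Int.units_mul_self, one_mul]

theorem exists_sq_conj (g : Perm α) (hg : ∀ d ∈ g.cycleType, Odd d) :
    ∃ s : Perm α, s * g * s⁻¹ = g ^ 2 ∧ (∀ x, g x = x → s x = x) ∧ Perm.sign s = (g.cycleType.map eps).prod := by
  induction g using Perm.cycle_induction_on with
  | base_one => exact ⟨1, by simp, fun _ _ => rfl, by simp⟩
  | base_cycles c hc =>
    rw [hc.cycleType] at hg ⊢
    simpa using exists_sq_cycle hc (hg _ (by simp))
  | induction_disjoint a b hd _ ih1 ih2 =>
    rw [hd.cycleType_mul] at hg ⊢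
    obtain ⟨s, h1, h2, h3⟩ := ih1 fun d h => hg d (Multiset.mem_add.2 (Or.inl h))
    obtain ⟨t, k1, k2, k3⟩ := ih2 fun d h => hg d (Multiset.mem_add.2 (Or.inr h))
    have e1 : Commute s (b ^ 2) := (Perm.Disjoint.commute fun x => (hd x).imp_left (h2 x)).pow_right 2
    have e2 : Commute a t := Perm.Disjoint.commute fun x => (hd x).imp_right (k2 x)
    refine ⟨s * t, ?_, fun x hx => ?_, by rw [Perm.sign_mul, h3, k3, Multiset.map_add, Multiset.prod_add]⟩
    · calc s * t * (a * b) * (s * t)⁻¹ = s * (t * a) * (b * t⁻¹ * s⁻¹) := by group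
        _ = s * a * (t * b * t⁻¹) * s⁻¹ := by rw [← e2.eq]; group
        _ = s * a * s⁻¹ * (s * b ^ 2 * s⁻¹) := by rw [k1]; group
        _ = _ := by rw [h1, e1.eq, mul_inv_cancel_right, hd.commute.mul_pow]
    · obtain ⟨e3, e4⟩ := hd.mul_apply_eq_iff.1 hx
      rw [Perm.mul_apply, k2 x e4, h2 x e3]

theorem odd_orderOf {g : Perm α} (hg : ∀ d ∈ g.cycleType, Odd d) : Odd (orderOf g) := by
  rw [← Perm.lcm_cycleType]
  exact (Multiset.prod_induction Odd _ (fun _ _ => Odd.mul) odd_one hg).of_dvd_nat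
    (Multiset.lcm_dvd.2 fun _ => Multiset.dvd_prod)

theorem mem_alt_of_odd {g : Perm α} (hg : Odd (orderOf g)) : g ∈ alternatingGroup α := by
  have h1 := congrArg Perm.sign (pow_orderOf_eq_one g)
  rw [map_pow, map_one] at h1
  rcases Int.units_eq_one_or (Perm.sign g) with h | h
  · exact h
  · rw [h, hg.neg_one_pow] at h1
    exact absurd h1 (by decide)

end Cfsg.Agent.ODD.Alt
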