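import Cfsg.Agent.H29.AltSelf
import Cfsg.Agent.ODD.Alt.Sgn

/-!
# Self-conjugate partitions whose character does not vanish at the even `2`-elements (helper30)

* `FM_diag` : the value at the class of the diagonal hook lengths is `±1`;
* `core` : for `n ≥ 6` an element `g` of that class is conjugate to `g ^ 2` in the alternating group.
-/

set_option autoImplicit false
set_option maxHeartbeats 200000

namespace Cfsg.Agent.ODD.Alt

open Finset Cfsg Cfsg.Agent.H614 Cfsg.Agent.H615.AltRefl Cfsg.Agent.H29.AltSelf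

variable {m : ℕ}

theorem mem_diag {β : Fin m → ℕ} {r : ℕ} : r ∈ diag β ↔ ∃ i, m ≤ β i ∧ r = 2 * (β i - m) + 1 := by
  simp only [H29.AltSelf.diag, mem_image, mem_filter, mem_univ, true_and]
  exact ⟨fun ⟨_, ⟨⟨i, hi⟩, h⟩, e⟩ => ⟨i, hi ▸ h, hi ▸ e.symm⟩, fun ⟨i, h, e⟩ => ⟨_, ⟨⟨i, rfl⟩, h⟩, e.symm⟩⟩

theorem FM_diag (N : ℕ) : ∀ {β : Fin m → ℕ}, ∑ i, β i = N → IsRefl β β →
    FM (diag β).val β = 1 ∨ FM (diag β).val β = -1 := by
  induction N using Nat.strong_induction_on with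
  | _ N ih =>
  intro β hN h
  by_cases h0 : ∀ i, β i < m
  · have h1 : diag β = ∅ := eq_empty_of_forall_notMem fun r hr => by
      obtain ⟨i, hi, -⟩ := mem_diag.1 hr
      exact absurd (h0 i) (by omega)
    obtain ⟨σ, hσ⟩ := exists_perm_of_lt h.inj h0
    have h2 := vac_alt σ (fun i : Fin m => (i : ℕ))
    rw [vac_eq_pair (fun i : Fin m => (i : ℕ)), pair_self_of_injective Fin.val_injective, smul_eq_mul, mul_one] at h2
    rw [h1, empty_val, FM_zero, hσ]
    exact Int.eq_one_or_neg_one_of_mul_eq_one ((congrArg₂ (· * ·) h2 h2).trans (sg_mul_self σ))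
  push Not at h0
  obtain ⟨i₀, hi₀⟩ := h0
  obtain ⟨j, -, hj⟩ := exists_max_image univ β ⟨i₀, mem_univ _⟩
  have hj' : ∀ i, β i ≤ β j := fun i => hj i (mem_univ _)
  have h1 := h.lt j
  have h2 := hj' i₀
  obtain ⟨d, hd⟩ : ∃ d, d = 2 * (β j - m) + 1 := ⟨_, rfl⟩
  have hdj : d ≤ β j := by omega
  have h3 : m + m - 1 - β j ∉ Set.range β := (h.iff _ h1).1 ⟨j, rfl⟩
  have hγj : dn β j d j = m + m - 1 - β j := by rw [dn_self]; omega
  have hr : ∀ c, c ∈ Set.range (dn β j d) ↔ (c ∈ Set.range β ∧ c ≠ β j) ∨ c = m + m - 1 - β j := fun c => by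
    constructor
    · rintro ⟨k, rfl⟩
      by_cases hk : k = j
      · exact Or.inr (hk ▸ hγj)
      · rw [dn_ne β d hk]
        exact Or.inl ⟨⟨k, rfl⟩, fun e => hk (h.inj e)⟩
    · rintro (⟨⟨k, rfl⟩, hk⟩ | rfl)
      · exact ⟨k, dn_ne β d fun e => hk (congrArg β e)⟩
      · exact ⟨j, hγj⟩
  have hinj : Function.Injective (dn β j d) := fun a b hab => by
    by_cases ha : a = j <;> by_cases hb : b = j
    · rw [ha, hb]
    · rw [ha, hγj, dn_ne β d hb] at hab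
      exact absurd ⟨b, hab.symm⟩ h3
    · rw [hb, hγj, dn_ne β d ha] at hab
      exact absurd ⟨a, hab⟩ h3
    · rw [dn_ne β d ha, dn_ne β d hb] at hab
      exact h.inj hab
  have hγ : IsRefl (dn β j d) (dn β j d) := by
    refine ⟨hinj, hinj, dn_lt h.lt j d, dn_lt h.lt j d, fun c hc => ?_⟩
    rw [hr, hr, h.iff c hc]
    by_cases e1 : c = β j
    · subst e1
      simp only [ne_eq, not_true_eq_false, and_false, or_true, false_or, iff_false]
      omega
    by_cases e2 : c = m + m - 1 - β j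
    · have e3 : m + m - 1 - c = β j := by omega
      simp only [e3, ne_eq, not_true_eq_false, and_false, false_or, iff_true_intro e2, or_true, true_iff]
      omega
    · have e3 : m + m - 1 - c ≠ β j := by omega
      have e4 : m + m - 1 - c ≠ m + m - 1 - β j := by omega
      simp only [ne_eq, e1, e2, e3, e4, not_false_eq_true, and_true, or_false]
  have h4 : d ∉ diag (dn β j d) := fun e => by
    obtain ⟨k, k1, k2⟩ := mem_diag.1 e
    rcases (hr _).1 ⟨k, rfl⟩ with k3 | k3 <;> omega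
  have h5 : diag β = insert d (diag (dn β j d)) := by
    ext r
    rw [mem_insert, mem_diag, mem_diag]
    constructor
    · rintro ⟨k, k1, rfl⟩
      by_cases hk : k = j
      · exact Or.inl (hk ▸ hd.symm)
      · exact Or.inr ⟨k, by rwa [dn_ne β d hk], by rw [dn_ne β d hk]⟩
    · rintro (rfl | ⟨k, k1, rfl⟩)
      · exact ⟨j, by omega, hd⟩
      · have hk : k ≠ j := fun e => by rw [e, hγj] at k1; omega
        rw [dn_ne β d hk] at k1 ⊢
        exact ⟨k, k1, rfl⟩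
  rw [h5, insert_val_of_notMem h4, FM_cons, sum_eq_single j, if_pos hdj]
  · exact ih _ (by have := sum_dn β j hdj; omega) rfl hγ
  · intro k _ hk
    split_ifs with k1
    · have k2 : β k ≠ β j := fun e => hk (h.inj e)
      have k3 := hj' k
      obtain ⟨l, hl⟩ := (h.iff (β k - d) (by omega)).2 (by
        rintro ⟨l, hl⟩
        have := hj' l
        omega)
      have hlk : l ≠ k := fun e => by rw [e] at hl; omega
      exact (FM_alt _).eq_zero two_torsion_int hlk (by rw [dn_ne β d hlk, dn_self, hl])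
    · rfl
  · exact fun e => absurd (mem_univ j) e

/-- a hook of even length -/
theorem hook_cases {β : Fin m → ℕ} (h : IsRefl β β) {r : ℕ} (hr : 0 < r) (he : r % 2 = 0) {s : Multiset ℕ}
    (h0 : FM (r ::ₘ s) β ≠ 0) :
    (∃ d ∈ diag β, 2 * r + 1 ≤ d) ∨ ∃ d ∈ diag β, ∃ d' ∈ diag β, d ≠ d' ∧ d + d' = 2 * r := by
  rw [FM_cons] at h0
  obtain ⟨j, -, hj⟩ := exists_ne_zero_of_sum_ne_zero h0
  have h1 : r ≤ β j := by
    by_contra h1
    exact hj (if_neg h1)
  rw [if_pos h1] at hj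
  have h2 : β j - r ∉ Set.range β := by
    rintro ⟨l, hl⟩
    have hlj : l ≠ j := fun e => by rw [e] at hl; omega
    exact hj ((FM_alt _).eq_zero two_torsion_int hlj (by rw [dn_ne β r hlj, dn_self, hl]))
  have h3 := h.lt j
  obtain ⟨k, hk⟩ : m + m - 1 - (β j - r) ∈ Set.range β := by
    by_contra h4
    exact h2 ((h.iff _ (by omega)).2 h4)
  by_cases e1 : m ≤ β j - r
  · exact Or.inl ⟨_, mem_diag.2 ⟨j, by omega, rfl⟩, by omega⟩
  by_cases e2 : β j < m
  · exact Or.inl ⟨_, mem_diag.2 ⟨k, by omega, rfl⟩, by omega⟩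
  · exact Or.inr ⟨_, mem_diag.2 ⟨j, by omega, rfl⟩, _, mem_diag.2 ⟨k, by omega, rfl⟩, by omega, by omega⟩

theorem exists_two_elt {n a b : ℕ} (hn : 2 ^ (a + 1) + 2 ^ (b + 1) ≤ n) : ∃ x : Equiv.Perm (Fin n),
    x ∈ alternatingGroup (Fin n) ∧ (∃ j, orderOf x = 2 ^ j) ∧ ∃ s, ty x = 2 ^ (a + 1) ::ₘ s := by
  obtain ⟨x, hx⟩ := (Equiv.Perm.exists_with_cycleType_iff (Fin n) (m := {2 ^ (a + 1), 2 ^ (b + 1)})).2 ⟨by simpa using hn,
    fun c hc => by
      simp only [Multiset.insert_eq_cons, Multiset.mem_cons, Multiset.mem_singleton] at hc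
      rcases hc with rfl | rfl <;> exact Nat.le_self_pow (by omega) 2⟩
  refine ⟨x, ?_, ?_, _, by rw [ty_eq, hx, Multiset.insert_eq_cons, Multiset.cons_add]⟩
  · rw [Equiv.Perm.mem_alternatingGroup, Equiv.Perm.sign_of_cycleType, hx]
    refine Even.neg_one_pow ⟨2 ^ a + 2 ^ b + 1, ?_⟩
    simp
    ring
  · have h1 : orderOf x ∣ 2 ^ (a + 1 + (b + 1)) := by
      rw [← Equiv.Perm.lcm_cycleType, hx, Multiset.lcm_dvd]
      intro c hc
      simp only [Multiset.insert_eq_cons, Multiset.mem_cons, Multiset.mem_singleton] at hc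
      rcases hc with rfl | rfl <;> exact pow_dvd_pow 2 (by omega)
    obtain ⟨j, -, hj⟩ := (Nat.dvd_prime_pow Nat.prime_two).1 h1
    exact ⟨j, hj⟩

theorem prod_eps {D : Finset ℕ} (ho : ∀ d ∈ D, d % 2 = 1) {r : ℕ} (h4 : r % 4 = 0) (hs : ∑ d ∈ D, d ≤ 2 * r + 1)
    (h : (∃ d ∈ D, 2 * r + 1 ≤ d) ∨ ∃ d ∈ D, ∃ d' ∈ D, d ≠ d' ∧ d + d' = 2 * r) : ∏ d ∈ D, eps d = 1 := by
  have key : ∀ S ⊆ D, 2 * r ≤ ∑ d ∈ S, d → ∏ d ∈ D, eps d = ∏ d ∈ S, eps d := fun S hS h1 =>
    (prod_subset hS fun x hx hx' => by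
      have h2 : ∑ d ∈ insert x S, d ≤ ∑ d ∈ D, d := sum_le_sum_of_subset (insert_subset hx hS)
      rw [sum_insert hx'] at h2
      have h3 := ho x hx
      rw [show x = 1 by omega]
      rfl).symm
  rcases h with ⟨d, hd, h1⟩ | ⟨d, hd, d', hd', h1, h2⟩
  · have h2 : d ≤ ∑ d ∈ D, d := single_le_sum (f := fun d => d) (fun _ _ => Nat.zero_le _) hd
    rw [key {d} (singleton_subset_iff.2 hd) (by rw [sum_singleton]; omega), prod_singleton, eps, if_pos (by omega)]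
  · rw [key {d, d'} (insert_subset hd (singleton_subset_iff.2 hd')) (by rw [sum_pair h1]; omega), prod_pair h1, eps, eps]
    have h3 := ho d hd
    split_ifs <;> first | rfl | omega

theorem exists_elt {n : ℕ} {D : Finset ℕ} (ho : ∀ d ∈ D, d % 2 = 1) (hs : ∑ d ∈ D, d = n) :
    ∃ g : Equiv.Perm (Fin n), g.cycleType = (D.erase 1).val ∧ ty g = D.val := by
  have h1 : ∑ d ∈ D.erase 1, d ≤ n := hs ▸ sum_le_sum_of_subset (erase_subset _ _)
  have h2 : (D.erase 1).val.sum = ∑ d ∈ D.erase 1, d := by rw [sum_val]; rfl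
  obtain ⟨g, hg⟩ := (Equiv.Perm.exists_with_cycleType_iff (Fin n) (m := (D.erase 1).val)).2
    ⟨by rwa [h2, Fintype.card_fin], fun c hc => by
      have h3 := mem_erase.1 (show c ∈ D.erase 1 from hc)
      have := ho c h3.2
      omega⟩
  refine ⟨g, hg, ?_⟩
  rw [ty_eq, hg, h2, Fintype.card_fin]
  by_cases h : 1 ∈ D
  · have h3 := add_sum_erase D (fun d => d) h
    rw [show n - ∑ d ∈ D.erase 1, d = 1 by omega, Multiset.replicate_one, add_comm, Multiset.singleton_add, erase_val,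
      Multiset.cons_erase (show 1 ∈ D.val from h)]
  · rw [erase_eq_of_notMem h, hs, Nat.sub_self, Multiset.replicate_zero, add_zero]

theorem core {n : ℕ} (hn : 6 ≤ n) {β : Fin m → ℕ} (h : IsRefl β β) (hs : ∑ i, β i = n + ∑ i : Fin m, (i : ℕ))
    (h2 : ∀ x ∈ alternatingGroup (Fin n), (∃ j, orderOf x = 2 ^ j) → FM (ty x) β ≠ 0) :
    ∃ g ∈ alternatingGroup (Fin n), Odd (orderOf g) ∧ (∃ s ∈ alternatingGroup (Fin n), s * g * s⁻¹ = g ^ 2) ∧
      (FM (ty g) β = 1 ∨ FM (ty g) β = -1) := by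
  have hD := diag_sum h hs
  have key : ∀ a b : ℕ, 2 ^ (a + 1) + 2 ^ (b + 1) ≤ n → (∃ d ∈ diag β, 2 * 2 ^ (a + 1) + 1 ≤ d) ∨
      ∃ d ∈ diag β, ∃ d' ∈ diag β, d ≠ d' ∧ d + d' = 2 * 2 ^ (a + 1) := fun a b hab => by
    obtain ⟨x, h3, h4, s, h5⟩ := exists_two_elt hab
    exact hook_cases h (by positivity) (by omega) (h5 ▸ h2 x h3 h4)
  have k1 : 2 ^ Nat.log 2 n ≤ n := Nat.pow_log_le_self 2 (by omega)
  have k2 : n < 2 ^ (Nat.log 2 n + 1) := Nat.lt_pow_succ_log_self one_lt_two n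
  obtain ⟨k, hk⟩ : ∃ k, Nat.log 2 n = k + 2 := ⟨Nat.log 2 n - 2, by
    have : 2 ≤ Nat.log 2 n := Nat.le_log_of_pow_le one_lt_two (by omega)
    omega⟩
  rw [hk, show 2 ^ (k + 2) = 4 * 2 ^ k by ring] at k1
  rw [hk, show 2 ^ (k + 2 + 1) = 8 * 2 ^ k by ring] at k2
  have k3 : n ≤ 4 * 2 ^ k + 1 := by
    by_contra k3
    have k5 := key (k + 1) 0
    rw [show 2 ^ (k + 1 + 1) = 4 * 2 ^ k by ring] at k5
    generalize 2 ^ k = q at *
    rcases k5 (by omega) with ⟨d, hd, e⟩ | ⟨d, hd, d', hd', e1, e2⟩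
    · have := single_le_sum (f := fun d => d) (fun _ _ => Nat.zero_le _) hd
      omega
    · have := sum_le_sum_of_subset (f := fun d => d) (insert_subset hd (singleton_subset_iff.2 hd'))
      rw [sum_pair e1] at this
      omega
  obtain ⟨k, rfl⟩ : ∃ l, k = l + 1 := ⟨k - 1, by
    rcases k with _ | k
    · omega
    · rfl⟩
  have k5 := key (k + 1) (k + 1)
  rw [show 2 ^ (k + 1 + 1) = 4 * 2 ^ k by ring] at k5
  rw [show 2 ^ (k + 1) = 2 * 2 ^ k by ring] at k1 k3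
  generalize 2 ^ k = q at k1 k3 k5
  have k4 := prod_eps (fun _ => odd_of_mem_diag) (r := 4 * q) (by omega) (by omega) (k5 (by omega))
  obtain ⟨g, hg, hg'⟩ := exists_elt (fun _ => odd_of_mem_diag) hD
  have ho : ∀ d ∈ g.cycleType, Odd d := fun d hd => by
    rw [hg] at hd
    exact Nat.odd_iff.2 (odd_of_mem_diag (mem_erase.1 hd).2)
  obtain ⟨s, e1, -, e2⟩ := exists_sq_conj g ho
  refine ⟨g, mem_alt_of_odd (odd_orderOf ho), odd_orderOf ho, ⟨s, ?_, e1⟩, hg' ▸ FM_diag _ rfl h⟩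
  rw [Equiv.Perm.mem_alternatingGroup, e2, hg, ← k4]
  exact prod_erase _ rfl

end Cfsg.Agent.ODD.Alt
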